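import Mathlib
import Cfsg.Prelude.Def_SevenCases
set_option linter.all false

/-!
# The families `C_p`, `T_p`: invariance under isomorphism
-/

set_option autoImplicit false
set_option linter.style.haveILetI false

namespace Cfsg.Agent.CpQuot.Congr

open Subgroup Cfsg

universe u v w

variable {X : Type u} {Y : Type v} [Group X] [Group Y]

theorem iso_iff (e : X ≃* Y) (M : Type w) [Mul M] : Nonempty (X ≃* M) ↔ Nonempty (Y ≃* M) :=
  ⟨fun ⟨f⟩ => ⟨e.symm.trans f⟩, fun ⟨f⟩ => ⟨e.trans f⟩⟩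

theorem map_center (e : X ≃* Y) : (center X).map e.toMonoidHom = center Y := by
  ext x
  constructor
  · rintro ⟨y, hy, rfl⟩
    rw [mem_center_iff]
    intro g
    have := mem_center_iff.mp hy (e.symm g)
    have h3 := congrArg e this
    simpa using h3
  · intro hx
    refine ⟨e.symm x, ?_, by simp⟩
    rw [SetLike.mem_coe, mem_center_iff]
    intro g
    have := mem_center_iff.mp hx (e g)
    have h3 := congrArg e.symm this
    simpa using h3

/-- isomorphic groups have isomorphic central quotients -/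
noncomputable def cq (e : X ≃* Y) : X ⧸ center X ≃* Y ⧸ center Y :=
  QuotientGroup.congr (center X) (center Y) e (map_center e)

/-- isomorphic groups have isomorphic centres -/
noncomputable def ce (e : X ≃* Y) : ↥(center X) ≃* ↥(center Y) :=
  (e.subgroupMap (center X)).trans (MulEquiv.subgroupCongr (map_center e))

theorem ce_coe (e : X ≃* Y) (z : ↥(center X)) : ((ce e z : ↥(center Y)) : Y) = e z := rfl

theorem isSimple_iff (e : X ≃* Y) : IsSimpleGroup X ↔ IsSimpleGroup Y := by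
  constructor
  · intro h
    haveI : Nontrivial Y := e.symm.toEquiv.nontrivial
    exact IsSimpleGroup.isSimpleGroup_of_surjective e.toMonoidHom e.surjective
  · intro h
    haveI : Nontrivial X := e.toEquiv.nontrivial
    exact IsSimpleGroup.isSimpleGroup_of_surjective e.symm.toMonoidHom e.symm.surjective

theorem isPerfect_of (e : X ≃* Y) (h : Group.IsPerfect X) : Group.IsPerfect Y :=
  Group.IsPerfect.ofSurjective (f := e.toMonoidHom) e.surjective

theorem isQuasisimple_iff (e : X ≃* Y) : IsQuasisimple X ↔ IsQuasisimple Y := by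
  unfold IsQuasisimple
  rw [isSimple_iff (cq e)]
  constructor
  · rintro ⟨h1, h2⟩
    exact ⟨isPerfect_of e h1, h2⟩
  · rintro ⟨h1, h2⟩
    exact ⟨isPerfect_of e.symm h1, h2⟩

theorem isPGroup_iff (e : X ≃* Y) (p : ℕ) : IsPGroup p X ↔ IsPGroup p Y :=
  ⟨fun h => h.of_equiv e, fun h => h.of_equiv e.symm⟩

theorem card_center (e : X ≃* Y) : Nat.card ↥(center X) = Nat.card ↥(center Y) :=
  Nat.card_congr (ce e).toEquiv

theorem prankLE_of (e : X ≃* Y) {p k : ℕ} (h : PRankLE p k X) : PRankLE p k Y := by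
  intro A hA hp
  have hc : IsMulCommutative ↥(A.map e.symm.toMonoidHom) := by
    refine ⟨⟨?_⟩⟩
    rintro ⟨_, a, ha, rfl⟩ ⟨_, b, hb, rfl⟩
    have h3 := congrArg Subtype.val (hA.is_comm.comm ⟨a, ha⟩ ⟨b, hb⟩)
    apply Subtype.ext
    change e.symm a * e.symm b = e.symm b * e.symm a
    rw [← map_mul, ← map_mul]
    exact congrArg e.symm h3
  have h3 := h (A.map e.symm.toMonoidHom) hc (by
    rintro _ ⟨a, ha, rfl⟩
    change e.symm a ^ p = 1
    rw [← map_pow, hp a ha, map_one])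
  rwa [Nat.card_congr (A.equivMapOfInjective e.symm.toMonoidHom e.symm.injective).toEquiv]

theorem prankLE_iff (e : X ≃* Y) (p k : ℕ) : PRankLE p k X ↔ PRankLE p k Y :=
  ⟨prankLE_of e, prankLE_of e.symm⟩

theorem prankAtLeast_of (e : X ≃* Y) {p k : ℕ} (h : PRankAtLeast p k X) : PRankAtLeast p k Y := by
  obtain ⟨A, hA, hp, hk⟩ := h
  refine ⟨A.map e.toMonoidHom, ?_, ?_, ?_⟩
  · refine ⟨⟨?_⟩⟩
    rintro ⟨_, a, ha, rfl⟩ ⟨_, b, hb, rfl⟩
    have h3 := congrArg Subtype.val (hA.is_comm.comm ⟨a, ha⟩ ⟨b, hb⟩)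
    apply Subtype.ext
    change e a * e b = e b * e a
    rw [← map_mul, ← map_mul]
    exact congrArg e h3
  · rintro _ ⟨a, ha, rfl⟩
    change e a ^ p = 1
    rw [← map_pow, hp a ha, map_one]
  · rwa [← Nat.card_congr (A.equivMapOfInjective e.toMonoidHom e.injective).toEquiv]

theorem prankAtLeast_iff (e : X ≃* Y) (p k : ℕ) : PRankAtLeast p k X ↔ PRankAtLeast p k Y :=
  ⟨prankAtLeast_of e, prankAtLeast_of e.symm⟩

theorem ord_center_of (e : X ≃* Y) {n : ℕ} (h : ∃ z ∈ center X, orderOf z = n) :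
    ∃ z ∈ center Y, orderOf z = n := by
  obtain ⟨z, hz, ho⟩ := h
  refine ⟨e z, (ce e ⟨z, hz⟩).2, ?_⟩
  rw [← ho]
  exact orderOf_injective e.toMonoidHom e.injective z

theorem ord_center_iff (e : X ≃* Y) (n : ℕ) : (∃ z ∈ center X, orderOf z = n) ↔ ∃ z ∈ center Y, orderOf z = n :=
  ⟨ord_center_of e, ord_center_of e.symm⟩

theorem isLieTypeChar_iff (e : X ≃* Y) (p : ℕ) : IsLieTypeChar p X ↔ IsLieTypeChar p Y := by
  simp only [IsLieTypeChar, IsPSLChar, IsPSpChar, IsPSUChar, IsPOmegaOddChar, IsPOmegaPlusChar, IsPOmegaMinusChar,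
    IsExceptionalChevChar, IsTwistedE6D4Char, Lie.IsoSuzuki, Lie.Iso2F4, Lie.IsoRee, iso_iff e]

theorem isChevSimple_iff (e : X ≃* Y) (p : ℕ) : IsChevSimple p X ↔ IsChevSimple p Y := by
  simp only [IsChevSimple, isLieTypeChar_iff e, Lie.IsoTits, iso_iff e]

theorem isCpSimple_iff (e : X ≃* Y) (p : ℕ) : IsCpSimple p X ↔ IsCpSimple p Y := by
  simp only [IsCpSimple, isChevSimple_iff e, IsCTwoListed, IsCThreeListed, IsCFiveListed, Lie.IsoTits, Spor.IsoM11,
    Spor.IsoM12, Spor.IsoM22, Spor.IsoM23, Spor.IsoM24, Spor.IsoJ2, Spor.IsoJ3, Spor.IsoJ4, Spor.IsoHS, Spor.IsoSuz,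
    Spor.IsoRu, Spor.IsoCo1, Spor.IsoCo2, Spor.IsoCo3, Spor.IsoFi22, Spor.IsoFi23, Spor.IsoFi24', Spor.IsoTh, Spor.IsoB,
    Spor.IsoM, Spor.IsoMcL, Spor.IsoLy, Spor.IsoON, Spor.IsoHN, Spor.IsoHe, iso_iff e]

theorem isCpException_iff (e : X ≃* Y) (p : ℕ) : IsCpException p X ↔ IsCpException p Y := by
  simp only [IsCpException, iso_iff e, iso_iff (cq e), card_center e, ord_center_iff e, Spor.IsoON]

theorem inC_iff (e : X ≃* Y) (p : ℕ) : InC p X ↔ InC p Y := by
  simp only [InC, isQuasisimple_iff e, isPGroup_iff (ce e), isCpSimple_iff (cq e), isCpException_iff e]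

theorem isKnown_iff (e : X ≃* Y) : IsKnownSimple' X ↔ IsKnownSimple' Y := by
  simp only [IsKnownSimple', IsPrimeCyclic, IsAlternating, IsPSL, IsPSp, IsPSU, IsPOmegaOdd, IsPOmegaPlus,
    IsPOmegaMinus, IsExceptionalLieType, IsSporadicGroup, Nat.card_congr e.toEquiv, Lie.IsoChevG2, Lie.IsoF4,
    Lie.IsoChevE6, Lie.IsoE7, Lie.IsoE8, Lie.Iso2E6, Lie.Iso3D4, Lie.IsoSuzuki, Lie.IsoRee, Lie.Iso2F4, Lie.IsoTits,
    Lie.ChevalleyDatum.IsGroupOver, Spor.IsoM11, Spor.IsoJ1,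
    Spor.IsoM12, Spor.IsoM22, Spor.IsoM23, Spor.IsoM24, Spor.IsoJ2, Spor.IsoJ3, Spor.IsoJ4, Spor.IsoHS, Spor.IsoSuz,
    Spor.IsoRu, Spor.IsoCo1, Spor.IsoCo2, Spor.IsoCo3, Spor.IsoFi22, Spor.IsoFi23, Spor.IsoFi24', Spor.IsoTh, Spor.IsoB,
    Spor.IsoM, Spor.IsoMcL, Spor.IsoLy, Spor.IsoON, Spor.IsoHN, Spor.IsoHe, iso_iff e]

theorem inT_iff (e : X ≃* Y) (p : ℕ) : InT p X ↔ InT p Y := by
  simp only [InT, isQuasisimple_iff e, isPGroup_iff (ce e), isKnown_iff (cq e), inC_iff e, prankLE_iff e,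
    prankAtLeast_iff e, card_center e, ord_center_iff e, Spor.IsoM12, Spor.IsoM22, Spor.IsoJ2, Spor.IsoFi22,
    iso_iff e, iso_iff (cq e)]

end Cfsg.Agent.CpQuot.Congr
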