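import Mathlib
import Cfsg.Agent.Transfer.CentralTransfer
set_option linter.all false

-- part: CpQuot/Gas
section
/-!
# Central elements of perfect groups and transfer

* `mem_commutator` : a central `p`-element of a finite perfect group `K` which lies in the subgroup `Q` of index prime
  to `p` lies in `Q'`;
* `commutator_le_zpowers` : a bound for `Q'` from generators;
* `card_dvd_of_pair`, `card_dvd_of_two_pairs` : bounds for central kernels.
-/

set_option autoImplicit false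
set_option linter.style.haveILetI false

namespace Cfsg.Agent.CpQuot.Gas

open Subgroup
open scoped commutatorElement

universe u v

/-- A central `p`-element of a perfect group lying in a subgroup `Q` of index prime to `p` lies in `Q'`. -/
theorem mem_commutator {K : Type u} [Group K] [Finite K] (hK : commutator K = ⊤) {p : ℕ} (hp : p.Prime)
    {Q : Subgroup K} (hQ : ¬ p ∣ Q.index) {z : K} (hz : z ∈ center K) (hzQ : z ∈ Q) (hzp : ∃ k : ℕ, z ^ p ^ k = 1) :
    (⟨z, hzQ⟩ : ↥Q) ∈ commutator ↥Q := by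
  haveI : Q.FiniteIndex := inferInstance
  have h1 := Cfsg.Agent.Transfer.CentralTransfer.transfer_of_mem_center' (Abelianization.of (G := ↥Q)) ⟨z, hzQ⟩ hz
  have h2 : MonoidHom.transfer (Abelianization.of (G := ↥Q)) z = 1 :=
    Cfsg.Agent.Transfer.CentralTransfer.map_eq_one_of_commutator_eq_top hK _ z
  have h3 : (Abelianization.of (⟨z, hzQ⟩ : ↥Q)) ^ Q.index = 1 := by
    rw [← h1]; exact h2
  obtain ⟨k, hk⟩ := hzp
  have h4 : (Abelianization.of (⟨z, hzQ⟩ : ↥Q)) ^ p ^ k = 1 := by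
    rw [← map_pow]
    have : (⟨z, hzQ⟩ : ↥Q) ^ p ^ k = 1 := Subtype.ext hk
    rw [this, map_one]
  have h5 : orderOf (Abelianization.of (⟨z, hzQ⟩ : ↥Q)) ∣ 1 := by
    have hc : Nat.Coprime (p ^ k) Q.index := Nat.Coprime.pow_left _ ((Nat.Prime.coprime_iff_not_dvd hp).2 hQ)
    rw [← hc]
    exact Nat.dvd_gcd (orderOf_dvd_of_pow_eq_one h4) (orderOf_dvd_of_pow_eq_one h3)
  have h6 := orderOf_eq_one_iff.1 (Nat.dvd_one.1 h5)
  exact (QuotientGroup.eq_one_iff (N := commutator ↥Q) _).1 h6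

/-- if the commutators of the generators of `Q` lie in the central subgroup `C` then `Q' ≤ C` -/
theorem commutator_le_of_gen {K : Type u} [Group K] {Q : Subgroup K} {s : Set K} (hs : Q ≤ closure s) {C : Subgroup K}
    (hC : C ≤ center K) (h : ∀ x ∈ s, ∀ y ∈ s, ⁅x, y⁆ ∈ C) : ⁅Q, Q⁆ ≤ C := by
  haveI : C.Normal := ⟨fun n hn g => by
    have := mem_center_iff.1 (hC hn) g
    rwa [this, mul_inv_cancel_right]⟩
  -- in `K / C` the generators commute
  have key : closure ((QuotientGroup.mk' C) '' s) ≤ centralizer (closure ((QuotientGroup.mk' C) '' s)) := by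
    rw [closure_le]
    rintro _ ⟨x, hx, rfl⟩
    rw [SetLike.mem_coe, mem_centralizer_iff]
    intro y hy
    have h2 : closure ((QuotientGroup.mk' C) '' s) ≤ centralizer {(QuotientGroup.mk' C) x} := by
      rw [closure_le]
      rintro _ ⟨y, hy, rfl⟩
      rw [SetLike.mem_coe, mem_centralizer_singleton_iff]
      have h3 := h y hy x hx
      rw [commutatorElement_def] at h3
      have h4 := (QuotientGroup.eq_one_iff (N := C) _).2 h3
      have h5 : (QuotientGroup.mk' C) (y * x * y⁻¹ * x⁻¹) = 1 := h4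
      rw [map_mul, map_mul, map_mul, map_inv, map_inv, mul_inv_eq_one, mul_inv_eq_iff_eq_mul] at h5
      exact h5
    exact (mem_centralizer_singleton_iff.1 (h2 hy))
  rw [commutator_le]
  intro x hx y hy
  have hx' : (QuotientGroup.mk' C) x ∈ closure ((QuotientGroup.mk' C) '' s) := by
    rw [← MonoidHom.map_closure]; exact ⟨x, hs hx, rfl⟩
  have hy' : (QuotientGroup.mk' C) y ∈ closure ((QuotientGroup.mk' C) '' s) := by
    rw [← MonoidHom.map_closure]; exact ⟨y, hs hy, rfl⟩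
  have h2 := mem_centralizer_iff.1 (key hy') _ hx'
  rw [← QuotientGroup.eq_one_iff (N := C)]
  change (QuotientGroup.mk' C) (x * y * x⁻¹ * y⁻¹) = 1
  rw [map_mul, map_mul, map_mul, map_inv, map_inv, mul_inv_eq_one, mul_inv_eq_iff_eq_mul]
  exact h2

/-- A central `p`-subgroup `Z` of a perfect group, contained in `Q` of index prime to `p` with `Q' ≤ C`, lies in `C`. -/
theorem le_of_commutator_le {K : Type u} [Group K] [Finite K] (hK : commutator K = ⊤) {p : ℕ} (hp : p.Prime)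
    {Q : Subgroup K} (hQ : ¬ p ∣ Q.index) {Z C : Subgroup K} (hZ : Z ≤ center K) (hZp : IsPGroup p ↥Z) (hZQ : Z ≤ Q)
    (hC : ⁅Q, Q⁆ ≤ C) : Z ≤ C := by
  intro z hz
  obtain ⟨k, hk⟩ := hZp ⟨z, hz⟩
  have h1 := mem_commutator hK hp hQ (hZ hz) (hZQ hz) ⟨k, congrArg Subtype.val hk⟩
  apply hC
  have h2 : ((commutator ↥Q).map Q.subtype) ≤ ⁅Q, Q⁆ := by
    rw [commutator_def, map_commutator, ← MonoidHom.range_eq_map, Q.range_subtype]
  exact h2 ⟨_, h1, rfl⟩

end Cfsg.Agent.CpQuot.Gas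
end

-- part: CpQuot/Pairs
section
/-!
# Bounds for the kernel of a perfect central extension

* `le_zpowers` : the kernel `Z` (a central `p`-group) of a perfect extension of `X` lies in `⟨c⟩`, if the commutators of
  lifts of generators of a subgroup of `X` of index prime to `p` lie in `⟨c⟩`;
* `card_dvd_pair` : one pair of commuting elements of order `p`;
* `card_dvd_pairs` : two pairs `x₁, x₂` and `y₁ = s t₁, y₂ = s t₂`, with involutions `s, t₁, t₂` commuting with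
  `x₁, x₂`, and `g y₁ g⁻¹ = x₁`, `g y₂ g⁻¹ = x₁ x₂`.
-/

set_option autoImplicit false
set_option linter.style.haveILetI false

namespace Cfsg.Agent.CpQuot.Pairs

open Subgroup
open scoped commutatorElement

universe u v

variable {K : Type u} {X : Type v} [Group K] [Group X] {f : K →* X}

theorem le_zpowers [Finite K] (hK : commutator K = ⊤) (hf : Function.Surjective f) (hZ : f.ker ≤ center K) {p : ℕ}
    (hp : p.Prime) (hZp : IsPGroup p ↥f.ker) {P : Subgroup X} (hP : ¬ p ∣ P.index) {s : Set K}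
    (hs : P ≤ (closure s).map f) {c : K} (hc : c ∈ center K) (h : ∀ x ∈ s, ∀ y ∈ s, ⁅x, y⁆ ∈ zpowers c) :
    f.ker ≤ zpowers c := by
  have hidx : (P.comap f).index = P.index := P.index_comap_of_surjective hf
  have hcz : zpowers c ≤ center K := by rwa [zpowers_le]
  have hle : P.comap f ≤ closure (s ∪ (f.ker : Set K)) := by
    intro q hq
    obtain ⟨r, hr, hrq⟩ := hs hq
    have h1 : r⁻¹ * q ∈ f.ker := by
      rw [MonoidHom.mem_ker, map_mul, map_inv, hrq, inv_mul_cancel]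
    have h2 : q = r * (r⁻¹ * q) := by group
    rw [h2, Subgroup.closure_union]
    exact mul_mem (mem_sup_left hr) (mem_sup_right (subset_closure h1))
  apply Gas.le_of_commutator_le hK hp (Q := P.comap f) (by rwa [hidx]) hZ hZp
  · intro z hz
    show f z ∈ P
    rw [MonoidHom.mem_ker.1 hz]
    exact one_mem P
  · apply Gas.commutator_le_of_gen hle hcz
    rintro x (hx | hx) y (hy | hy)
    · exact h x hx y hy
    · have := mem_center_iff.1 (hZ hy) x
      rw [commutatorElement_def, this]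
      have h3 : y * x * x⁻¹ * y⁻¹ = 1 := by group
      rw [h3]
      exact one_mem _
    · have := mem_center_iff.1 (hZ hx) y
      rw [commutatorElement_def, ← this]
      have h3 : y * x * x⁻¹ * y⁻¹ = 1 := by group
      rw [h3]
      exact one_mem _
    · have := mem_center_iff.1 (hZ hx) y
      rw [commutatorElement_def, ← this]
      have h3 : y * x * x⁻¹ * y⁻¹ = 1 := by group
      rw [h3]
      exact one_mem _

theorem swap_mem {a b : K} {C : Subgroup K} (h : ⁅a, b⁆ ∈ C) : ⁅b, a⁆ ∈ C := by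
  rw [← commutatorElement_inv a b]
  exact inv_mem h

/-- the commutator of lifts of commuting elements is central -/
theorem comm_mem_center (hZ : f.ker ≤ center K) {x y : K} (h : f x * f y = f y * f x) : ⁅x, y⁆ ∈ center K := by
  apply hZ
  rw [MonoidHom.mem_ker, commutatorElement_def, map_mul, map_mul, map_mul, map_inv, map_inv, h]
  group

/-- powers -/
theorem comm_pow {x y : K} (h : ⁅x, y⁆ ∈ center K) (n : ℕ) : ⁅x ^ n, y⁆ = ⁅x, y⁆ ^ n := by
  induction n with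
  | zero => simp
  | succ n ih =>
    have h1 : ⁅x ^ (n + 1), y⁆ = x ^ n * ⁅x, y⁆ * (x ^ n)⁻¹ * ⁅x ^ n, y⁆ := by
      rw [pow_succ]
      simp only [commutatorElement_def]
      group
    rw [h1, mem_center_iff.1 h (x ^ n), mul_inv_cancel_right, ih, ← pow_succ']

/-- If `f(x)^n = 1` and the images commute then `⁅x, y⁆ ^ n = 1`. -/
theorem comm_pow_eq_one (hZ : f.ker ≤ center K) {x y : K} (h : f x * f y = f y * f x) {n : ℕ} (hx : f x ^ n = 1) :
    ⁅x, y⁆ ^ n = 1 := by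
  rw [← comm_pow (comm_mem_center hZ h)]
  have h1 : x ^ n ∈ center K := hZ (by rw [MonoidHom.mem_ker, map_pow, hx])
  rw [commutatorElement_def, ← mem_center_iff.1 h1 y]
  group

theorem swap_pow_eq_one (hZ : f.ker ≤ center K) {x y : K} (h : f x * f y = f y * f x) {n : ℕ} (hy : f y ^ n = 1) :
    ⁅x, y⁆ ^ n = 1 := by
  have h1 := comm_pow_eq_one hZ h.symm hy
  rw [← commutatorElement_inv, inv_pow, h1, inv_one]

/-- lifts of commuting elements, one of them of order prime to `p`, commute -/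
theorem comm_eq_one (hZ : f.ker ≤ center K) {p : ℕ} (hZp : IsPGroup p ↥f.ker) {x y : K} (h : f x * f y = f y * f x)
    {n : ℕ} (hn : Nat.Coprime p n) (hy : f y ^ n = 1) : ⁅x, y⁆ = 1 := by
  have h1 : ⁅x, y⁆ ∈ f.ker := by
    rw [MonoidHom.mem_ker, commutatorElement_def, map_mul, map_mul, map_mul, map_inv, map_inv, h]
    group
  obtain ⟨k, hk⟩ := hZp ⟨_, h1⟩
  have h2 : ⁅x, y⁆ ^ p ^ k = 1 := congrArg Subtype.val hk
  have h3 := swap_pow_eq_one hZ h hy
  have h4 : orderOf ⁅x, y⁆ ∣ 1 := by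
    rw [← (Nat.Coprime.pow_left k hn : Nat.gcd (p ^ k) n = 1)]
    exact Nat.dvd_gcd (orderOf_dvd_of_pow_eq_one h2) (orderOf_dvd_of_pow_eq_one h3)
  exact orderOf_eq_one_iff.1 (Nat.dvd_one.1 h4)

theorem card_dvd_of_le {p : ℕ} {c : K} (hc : c ^ p = 1) (h : f.ker ≤ zpowers c) : Nat.card ↥f.ker ∣ p := by
  have h1 := Subgroup.card_dvd_of_le h
  rw [Nat.card_zpowers] at h1
  exact h1.trans (orderOf_dvd_of_pow_eq_one hc)

/-- a subgroup of index prime to `p` generated by two commuting elements of order `p` -/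
theorem card_dvd_pair [Finite K] (hK : commutator K = ⊤) (hf : Function.Surjective f) (hZ : f.ker ≤ center K) {p : ℕ}
    (hp : p.Prime) (hZp : IsPGroup p ↥f.ker) {P : Subgroup X} (hP : ¬ p ∣ P.index) {x y : X} (hxy : x * y = y * x)
    (hx : x ^ p = 1) (hPle : P ≤ closure {x, y}) : Nat.card ↥f.ker ∣ p := by
  obtain ⟨x', rfl⟩ := hf x
  obtain ⟨y', rfl⟩ := hf y
  have hc := comm_mem_center hZ hxy
  have hcp := comm_pow_eq_one hZ hxy hx
  refine card_dvd_of_le hcp (le_zpowers hK hf hZ hp hZp hP (s := {x', y'}) ?_ hc ?_)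
  · rw [MonoidHom.map_closure]
    simpa [Set.image_pair] using hPle
  · rintro a (rfl | rfl) b (rfl | rfl)
    · rw [commutatorElement_self]; exact one_mem _
    · exact mem_zpowers _
    · exact swap_mem (mem_zpowers _)
    · rw [commutatorElement_self]; exact one_mem _

/-- two pairs -/
theorem card_dvd_pairs [Finite K] (hK : commutator K = ⊤) (hf : Function.Surjective f) (hZ : f.ker ≤ center K) {p : ℕ}
    (hp : p.Prime) (hp2 : p ≠ 2) (hZp : IsPGroup p ↥f.ker) {P : Subgroup X} (hP : ¬ p ∣ P.index)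
    {x₁ x₂ s t₁ t₂ g : X} (hx : x₁ * x₂ = x₂ * x₁) (hx1 : x₁ ^ p = 1)
    (hs : s ^ 2 = 1) (ht1 : t₁ ^ 2 = 1) (ht2 : t₂ ^ 2 = 1)
    (h1s : x₁ * s = s * x₁) (h2s : x₂ * s = s * x₂) (h11 : x₁ * t₁ = t₁ * x₁) (h21 : x₂ * t₁ = t₁ * x₂)
    (h12 : x₁ * t₂ = t₂ * x₁) (h22 : x₂ * t₂ = t₂ * x₂)
    (hg1 : g * (s * t₁) * g⁻¹ = x₁) (hg2 : g * (s * t₂) * g⁻¹ = x₁ * x₂)
    (hPle : P ≤ closure {x₁, x₂, s * t₁, s * t₂}) : Nat.card ↥f.ker ∣ p := by
  obtain ⟨x₁, rfl⟩ := hf x₁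
  obtain ⟨x₂, rfl⟩ := hf x₂
  obtain ⟨s, rfl⟩ := hf s
  obtain ⟨t₁, rfl⟩ := hf t₁
  obtain ⟨t₂, rfl⟩ := hf t₂
  obtain ⟨g, rfl⟩ := hf g
  have hcop : Nat.Coprime p 2 := (Nat.coprime_primes hp Nat.prime_two).2 hp2
  have e1s := comm_eq_one hZ hZp h1s hcop hs
  have e2s := comm_eq_one hZ hZp h2s hcop hs
  have e11 := comm_eq_one hZ hZp h11 hcop ht1
  have e21 := comm_eq_one hZ hZp h21 hcop ht1
  have e12 := comm_eq_one hZ hZp h12 hcop ht2
  have e22 := comm_eq_one hZ hZp h22 hcop ht2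
  rw [commutatorElement_eq_one_iff_mul_comm] at e1s e2s e11 e21 e12 e22
  have c11 : x₁ * (s * t₁) = (s * t₁) * x₁ := by rw [← mul_assoc, e1s, mul_assoc, e11, mul_assoc]
  have c21 : x₂ * (s * t₁) = (s * t₁) * x₂ := by rw [← mul_assoc, e2s, mul_assoc, e21, mul_assoc]
  have c12 : x₁ * (s * t₂) = (s * t₂) * x₁ := by rw [← mul_assoc, e1s, mul_assoc, e12, mul_assoc]
  have c22 : x₂ * (s * t₂) = (s * t₂) * x₂ := by rw [← mul_assoc, e2s, mul_assoc, e22, mul_assoc]
  have hc := comm_mem_center hZ hx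
  have hcp := comm_pow_eq_one hZ hx hx1
  -- the commutator of the other pair
  have hz1 : g * (s * t₁) * g⁻¹ * x₁⁻¹ ∈ center K := by
    apply hZ
    rw [MonoidHom.mem_ker]
    simp only [map_mul, map_inv]
    rw [hg1]; group
  have hz2 : g * (s * t₂) * g⁻¹ * (x₁ * x₂)⁻¹ ∈ center K := by
    apply hZ
    rw [MonoidHom.mem_ker]
    simp only [map_mul, map_inv]
    rw [hg2]; group
  have hy : ⁅s * t₁, s * t₂⁆ = ⁅x₁, x₂⁆ := by
    set z₁ := g * (s * t₁) * g⁻¹ * x₁⁻¹ with hz1'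
    set z₂ := g * (s * t₂) * g⁻¹ * (x₁ * x₂)⁻¹ with hz2'
    have a1 : g * (s * t₁) * g⁻¹ = z₁ * x₁ := by rw [hz1']; group
    have a2 : g * (s * t₂) * g⁻¹ = z₂ * (x₁ * x₂) := by rw [hz2']; group
    have a3 : g * ⁅s * t₁, s * t₂⁆ * g⁻¹ = ⁅z₁ * x₁, z₂ * (x₁ * x₂)⁆ := by
      rw [← a1, ← a2]
      simp only [commutatorElement_def]
      group
    have a4 : ⁅z₁ * x₁, z₂ * (x₁ * x₂)⁆ = ⁅x₁, x₁ * x₂⁆ := by
      have b1 := mem_center_iff.1 hz1
      have b2 := mem_center_iff.1 hz2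
      simp only [commutatorElement_def, mul_inv_rev z₁, mul_inv_rev z₂]
      calc z₁ * x₁ * (z₂ * (x₁ * x₂)) * (x₁⁻¹ * z₁⁻¹) * ((x₁ * x₂)⁻¹ * z₂⁻¹)
          = z₁ * (x₁ * z₂) * (x₁ * x₂) * x₁⁻¹ * z₁⁻¹ * (x₁ * x₂)⁻¹ * z₂⁻¹ := by group
        _ = z₁ * (z₂ * x₁) * (x₁ * x₂) * x₁⁻¹ * z₁⁻¹ * (x₁ * x₂)⁻¹ * z₂⁻¹ := by rw [b2 x₁]
        _ = (z₁ * (z₂ * x₁ * (x₁ * x₂) * x₁⁻¹)) * z₁⁻¹ * (x₁ * x₂)⁻¹ * z₂⁻¹ := by group
        _ = ((z₂ * x₁ * (x₁ * x₂) * x₁⁻¹) * z₁) * z₁⁻¹ * (x₁ * x₂)⁻¹ * z₂⁻¹ := by rw [b1]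
        _ = z₂ * (x₁ * (x₁ * x₂) * x₁⁻¹ * (x₁ * x₂)⁻¹) * z₂⁻¹ := by group
        _ = (x₁ * (x₁ * x₂) * x₁⁻¹ * (x₁ * x₂)⁻¹) * z₂ * z₂⁻¹ := by rw [b2]
        _ = x₁ * (x₁ * x₂) * x₁⁻¹ * (x₁ * x₂)⁻¹ := by group
    have a5 : ⁅x₁, x₁ * x₂⁆ = ⁅x₁, x₂⁆ := by
      have : ⁅x₁, x₁ * x₂⁆ = x₁ * ⁅x₁, x₂⁆ * x₁⁻¹ := by
        simp only [commutatorElement_def]; group
      rw [this, mem_center_iff.1 hc x₁, mul_inv_cancel_right]
    rw [a4, a5] at a3
    have a6 : ⁅s * t₁, s * t₂⁆ = g⁻¹ * ⁅x₁, x₂⁆ * g := by rw [← a3]; group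
    rw [a6, mem_center_iff.1 hc g⁻¹, inv_mul_cancel_right]
  refine card_dvd_of_le hcp (le_zpowers hK hf hZ hp hZp hP (s := {x₁, x₂, s * t₁, s * t₂}) ?_ hc ?_)
  · rw [MonoidHom.map_closure]
    simpa [Set.image_insert_eq, map_mul] using hPle
  · have self : ∀ a : K, ⁅a, a⁆ ∈ zpowers ⁅x₁, x₂⁆ := fun a => by
      rw [commutatorElement_self]; exact one_mem _
    have cm : ∀ a b : K, a * b = b * a → ⁅a, b⁆ ∈ zpowers ⁅x₁, x₂⁆ := fun a b h => by
      rw [commutatorElement_eq_one_iff_mul_comm.2 h]; exact one_mem _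
    rintro a (rfl | rfl | rfl | rfl) b (rfl | rfl | rfl | rfl)
    · exact self _
    · exact mem_zpowers _
    · exact cm _ _ c11
    · exact cm _ _ c12
    · exact swap_mem (mem_zpowers _)
    · exact self _
    · exact cm _ _ c21
    · exact cm _ _ c22
    · exact cm _ _ c11.symm
    · exact cm _ _ c21.symm
    · exact self _
    · rw [hy]; exact mem_zpowers _
    · exact cm _ _ c12.symm
    · exact cm _ _ c22.symm
    · exact swap_mem (by rw [hy]; exact mem_zpowers _)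
    · exact self _

end Cfsg.Agent.CpQuot.Pairs
end
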