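import Mathlib
import Cfsg.Prelude.Def_Sporadic
import Cfsg.Agent.CpQuot.Pairs
import Cfsg.Agent.KFacts.MulSpor.ONWords
import Cfsg.Agent.ONType.TupRow
set_option linter.all false

-- part: CpQuot/EightyOne
section
/-!
# A subgroup of order 81 from two pairs of elements of order 3
-/

set_option autoImplicit false
set_option linter.style.haveILetI false

namespace Cfsg.Agent.CpQuot.EightyOne

open Subgroup

universe v

variable {X : Type v} [Group X]

theorem step [Finite X] {P Q : Subgroup X} (hQ : IsPGroup 3 ↥Q) (hlt : P < Q) {n : ℕ} (hn : 3 ^ n ∣ Nat.card P) :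
    3 ^ (n + 1) ∣ Nat.card Q := by
  haveI : Fact (Nat.Prime 3) := ⟨Nat.prime_three⟩
  obtain ⟨k, hk⟩ := IsPGroup.iff_card.1 hQ
  obtain ⟨j, hj, hj'⟩ := (Nat.dvd_prime_pow Nat.prime_three).1 (hk ▸ Subgroup.card_dvd_of_le hlt.le)
  have hjk : j < k := by
    rcases Nat.lt_or_ge j k with h | h
    · exact h
    · exfalso
      have : j = k := le_antisymm hj h
      apply hlt.ne
      apply Subgroup.eq_of_le_of_card_ge hlt.le
      rw [hk, hj', this]
  have hnj : n ≤ j := by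
    rw [hj'] at hn
    exact (Nat.pow_dvd_pow_iff_le_right (by norm_num)).1 hn
  rw [hk]
  exact pow_dvd_pow 3 (by omega)

/-- the elements of the closure of a set of pairwise commuting elements of order dividing 3 -/
theorem closure_comm {s : Set X} (hc : ∀ x ∈ s, ∀ y ∈ s, x * y = y * x) {a b : X} (ha : a ∈ closure s)
    (hb : b ∈ closure s) : a * b = b * a := by
  have h1 : closure s ≤ centralizer (closure s : Set X) := by
    rw [centralizer_closure, closure_le]
    intro x hx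
    rw [SetLike.mem_coe, mem_centralizer_iff]
    intro y hy
    exact hc y hy x hx
  exact mem_centralizer_iff.1 (h1 hb) a ha

theorem closure_cube {s : Set X} (hc : ∀ x ∈ s, ∀ y ∈ s, x * y = y * x) (h3 : ∀ x ∈ s, x ^ 3 = 1) {a : X}
    (ha : a ∈ closure s) : a ^ 3 = 1 := by
  induction ha using closure_induction with
  | mem x hx => exact h3 x hx
  | one => exact one_pow 3
  | mul x y hx hy h1 h2 =>
    have : Commute x y := closure_comm hc hx hy
    rw [this.mul_pow, h1, h2, one_mul]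
  | inv x hx h1 => rw [inv_pow, h1, inv_one]

theorem isPGroup_closure {s : Set X} (hc : ∀ x ∈ s, ∀ y ∈ s, x * y = y * x) (h3 : ∀ x ∈ s, x ^ 3 = 1) :
    IsPGroup 3 ↥(closure s) := by
  rintro ⟨a, ha⟩
  exact ⟨1, Subtype.ext (by simpa using closure_cube hc h3 ha)⟩

theorem mem_zpowers_three {x y : X} (h3 : x ^ 3 = 1) (hy : y ∈ zpowers x) : y = 1 ∨ y = x ∨ y = x * x := by
  obtain ⟨k, rfl⟩ := mem_zpowers_iff.1 hy
  have h1 : x ^ k = x ^ (k % 3) := by
    conv_lhs => rw [← Int.mul_ediv_add_emod k 3, zpow_add, zpow_mul]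
    have : x ^ (3 : ℤ) = 1 := by rw [← h3]; norm_cast
    rw [this, one_zpow, one_mul]
  have h2 : k % 3 = 0 ∨ k % 3 = 1 ∨ k % 3 = 2 := by omega
  rw [h1]
  rcases h2 with h | h | h <;> rw [h]
  · left; simp
  · right; left; simp
  · right; right
    rw [show (2 : ℤ) = 1 + 1 by norm_num, zpow_add, zpow_one]

theorem card_closure [Finite X] {x₁ x₂ y₁ y₂ s g : X}
    (h12 : x₁ * x₂ = x₂ * x₁) (k11 : x₁ * y₁ = y₁ * x₁) (k12 : x₁ * y₂ = y₂ * x₁) (k21 : x₂ * y₁ = y₁ * x₂)
    (k22 : x₂ * y₂ = y₂ * x₂) (hy : y₁ * y₂ = y₂ * y₁)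
    (c1 : x₁ ^ 3 = 1) (c2 : x₂ ^ 3 = 1) (d1 : y₁ ^ 3 = 1) (d2 : y₂ ^ 3 = 1)
    (s1 : s * x₁ * s⁻¹ = x₁) (s2 : s * x₂ * s⁻¹ = x₂) (r1 : s * y₁ * s⁻¹ = y₁⁻¹) (r2 : s * y₂ * s⁻¹ = y₂⁻¹)
    (hg1 : g * y₁ * g⁻¹ = x₁) (hg2 : g * y₂ * g⁻¹ = x₁ * x₂)
    (n1 : x₁ ≠ 1) (m1 : x₂ ≠ 1) (m2 : x₂ ≠ x₁) (m3 : x₂ ≠ x₁ * x₁) :
    81 ∣ Nat.card ↥(closure {x₁, x₂, y₁, y₂}) := by
  have hc4 : ∀ a ∈ ({x₁, x₂, y₁, y₂} : Set X), ∀ b ∈ ({x₁, x₂, y₁, y₂} : Set X), a * b = b * a := by
    rintro a (rfl | rfl | rfl | rfl) b (rfl | rfl | rfl | rfl) <;>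
      first | rfl | assumption | (symm; assumption)
  have h34 : ∀ a ∈ ({x₁, x₂, y₁, y₂} : Set X), a ^ 3 = 1 := by
    rintro a (rfl | rfl | rfl | rfl) <;> assumption
  have hP4 := isPGroup_closure hc4 h34
  have sub3 : ({x₁, x₂, y₁} : Set X) ⊆ {x₁, x₂, y₁, y₂} := by
    rintro a (rfl | rfl | rfl) <;> simp
  have sub2 : ({x₁, x₂} : Set X) ⊆ {x₁, x₂, y₁} := by
    rintro a (rfl | rfl) <;> simp
  have sub1 : ({x₁} : Set X) ⊆ {x₁, x₂} := by
    rintro a rfl; simp
  have hP3 : IsPGroup 3 ↥(closure {x₁, x₂, y₁}) := hP4.to_le (closure_mono sub3)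
  have hP2 : IsPGroup 3 ↥(closure {x₁, x₂}) := hP3.to_le (closure_mono sub2)
  have hP1 : IsPGroup 3 ↥(closure {x₁}) := hP2.to_le (closure_mono sub1)
  have hx2 : x₂ ∉ zpowers x₁ := by
    intro h
    rcases mem_zpowers_three c1 h with h | h | h
    · exact m1 h
    · exact m2 h
    · exact m3 h
  have hy2 : y₂ ∉ zpowers y₁ := by
    intro h
    apply hx2
    have h1 : x₁ * x₂ ∈ zpowers x₁ := by
      rw [← hg2]
      obtain ⟨k, hk⟩ := mem_zpowers_iff.1 h
      rw [mem_zpowers_iff]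
      refine ⟨k, ?_⟩
      rw [← hk, ← hg1, conj_zpow]
    exact (Subgroup.mul_mem_cancel_left _ (mem_zpowers x₁)).1 h1
  -- elements of `⟨x₁, x₂⟩` commute with `s`
  have hs : ∀ a ∈ closure ({x₁, x₂} : Set X), s * a * s⁻¹ = a := by
    intro a ha
    induction ha using closure_induction with
    | mem x hx => rcases hx with rfl | rfl <;> assumption
    | one => simp
    | mul x y _ _ h1 h2 =>
      have : s * (x * y) * s⁻¹ = (s * x * s⁻¹) * (s * y * s⁻¹) := by group
      rw [this, h1, h2]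
    | inv x _ h1 =>
      have : s * x⁻¹ * s⁻¹ = (s * x * s⁻¹)⁻¹ := by group
      rw [this, h1]
  have hy1 : y₁ ≠ 1 := by
    intro h
    apply n1
    rw [← hg1, h]; group
  -- the chain
  have e0 : 3 ^ 0 ∣ Nat.card ↥(⊥ : Subgroup X) := by norm_num
  have l1 : (⊥ : Subgroup X) < closure {x₁} := by
    rw [bot_lt_iff_ne_bot]
    intro h
    apply n1
    have : x₁ ∈ closure ({x₁} : Set X) := subset_closure rfl
    rw [h] at this
    exact mem_bot.1 this
  have l2 : closure ({x₁} : Set X) < closure {x₁, x₂} := by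
    refine lt_of_le_of_ne (closure_mono sub1) ?_
    intro h
    apply hx2
    rw [← Subgroup.zpowers_eq_closure] at h
    rw [h]
    exact subset_closure (by simp)
  have l3 : closure ({x₁, x₂} : Set X) < closure {x₁, x₂, y₁} := by
    refine lt_of_le_of_ne (closure_mono sub2) ?_
    intro h
    have h1 : y₁ ∈ closure ({x₁, x₂} : Set X) := by
      rw [h]; exact subset_closure (by simp)
    have h2 := hs y₁ h1
    rw [r1] at h2
    apply hy1
    have h3 : y₁ * y₁ = 1 := by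
      nth_rw 1 [← h2]; group
    calc y₁ = y₁ ^ 3 * (y₁ * y₁)⁻¹ := by rw [pow_succ, pow_two]; group
      _ = 1 := by rw [d1, h3]; group
  have l4 : closure ({x₁, x₂, y₁} : Set X) < closure {x₁, x₂, y₁, y₂} := by
    refine lt_of_le_of_ne (closure_mono sub3) ?_
    intro h
    have h1 : y₂ ∈ closure ({x₁, x₂, y₁} : Set X) := by
      rw [h]; exact subset_closure (by simp)
    have hcm : ∀ a ∈ closure ({x₁, x₂} : Set X), ∀ k : ℤ, a * y₁ ^ k = y₁ ^ k * a := by
      intro a ha k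
      have h3 : a * y₁ = y₁ * a := closure_comm hc4 (closure_mono (sub2.trans sub3) ha)
        (subset_closure (by simp))
      exact (Commute.zpow_right (show Commute a y₁ from h3) k)
    have hdec : ∀ b ∈ closure ({x₁, x₂, y₁} : Set X), ∃ a ∈ closure ({x₁, x₂} : Set X), ∃ k : ℤ, b = a * y₁ ^ k := by
      intro b hb
      induction hb using closure_induction with
      | mem x hx =>
        rcases hx with rfl | rfl | rfl
        · exact ⟨x, subset_closure (by simp), 0, by simp⟩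
        · exact ⟨x, subset_closure (by simp), 0, by simp⟩
        · exact ⟨1, one_mem _, 1, by simp⟩
      | one => exact ⟨1, one_mem _, 0, by simp⟩
      | mul x y _ _ h1 h2 =>
        obtain ⟨a, ha, k, rfl⟩ := h1
        obtain ⟨b, hb, l, rfl⟩ := h2
        refine ⟨a * b, mul_mem ha hb, k + l, ?_⟩
        rw [zpow_add, mul_assoc a, ← mul_assoc (y₁ ^ k) b, ← hcm b hb k]
        group
      | inv x _ h1 =>
        obtain ⟨a, ha, k, rfl⟩ := h1
        refine ⟨a⁻¹, inv_mem ha, -k, ?_⟩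
        rw [mul_inv_rev, zpow_neg, ← zpow_neg, hcm _ (inv_mem ha)]
    obtain ⟨a, ha, k, hab⟩ := hdec y₂ h1
    have h5 : s * y₂ * s⁻¹ = a * (y₁ ^ k)⁻¹ := by
      rw [hab]
      have : s * (a * y₁ ^ k) * s⁻¹ = (s * a * s⁻¹) * (s * y₁ * s⁻¹) ^ k := by rw [conj_zpow]; group
      rw [this, hs a ha, r1, inv_zpow]
    rw [r2] at h5
    have h6 : a * a = 1 := by
      have h7 : (1 : X) = y₂ * y₂⁻¹ := (mul_inv_cancel _).symm
      rw [h5, hab] at h7
      rw [h7, mul_assoc a, ← mul_assoc (y₁ ^ k), ← hcm a ha k, mul_assoc a (y₁ ^ k), mul_inv_cancel, mul_one]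
    have h8 : a = 1 := by
      have h9 := closure_cube hc4 h34 (closure_mono (sub2.trans sub3) ha)
      calc a = a ^ 3 * (a * a)⁻¹ := by rw [pow_succ, pow_two]; group
        _ = 1 := by rw [h9, h6]; group
    apply hy2
    rw [hab, h8, one_mul]
    exact zpow_mem (mem_zpowers y₁) k
  have e1 := step hP1 l1 e0
  have e2 := step hP2 l2 e1
  have e3 := step hP3 l3 e2
  have e4 := step hP4 l4 e3
  simpa using e4

end Cfsg.Agent.CpQuot.EightyOne
end

-- part: CpQuot/ONThree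
section
/-!
# The 3-part of the Schur multiplier of the O'Nan group is at most 3

A Sylow 3-subgroup is `⟨x₁, x₂⟩ × ⟨y₁, y₂⟩` with `x₁ = ab`, `x₂ = g b g⁻¹ a`, `y₁ = ef`, `y₂ = e g e g⁻¹`, and
`e, f, g e g⁻¹` commute with `x₁, x₂`. The words were found by computer.
-/

set_option autoImplicit false
set_option maxRecDepth 100000
set_option Elab.async false

namespace Cfsg.Agent.CpQuot.ONThree

open Subgroup
open Cfsg.Spor (ON)
open Cfsg.Spor.ON (Gen)
open Cfsg.Agent.KFacts.MulSpor.ON (w w_append w_one w_cons w_iw iw okw rel eqw cj mats)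
open Cfsg.Agent.SporadicB.ON45Word (on LW)
open Cfsg.Agent.ONType.TupRow (rowNe ne_of_rowNe)

/-- two words are different -/
theorem ne_w (l m : List Gen) (h : rowNe (mats l) (mats m) = true) : w l ≠ w m :=
  ne_of_rowNe (LW.word l) (LW.word m) h

theorem w_nil : w [] = 1 := rfl

/-- `x₁ = ab` -/
def x₁ : List Gen := [.a, .b]
/-- `x₂ = g b g⁻¹ a` -/
def x₂ : List Gen := [.g, .b, .g, .g, .g, .a]
/-- `s = e` -/
def s : List Gen := [.e]
/-- `t₁ = f` -/
def t₁ : List Gen := [.f]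
/-- `t₂ = g e g⁻¹` -/
def t₂ : List Gen := [.g, .e, .g, .g, .g]
/-- the conjugating element -/
def k : List Gen := [.c, .b, .a, .d, .c, .b, .d, .e, .g, .b, .c, .b, .d, .g, .c, .e, .d, .c, .b, .g, .g, .g, .e, .d,
  .c, .g, .g, .g, .e, .d, .b, .c, .d]

section

variable (hs : IsSimpleGroup ON)

include hs

theorem x12 : w x₁ * w x₂ = w x₂ * w x₁ := by
  rw [← w_append, ← w_append]; exact eqw hs _ _ (by decide +kernel)

theorem cube1 : w x₁ ^ 3 = 1 := by
  have : w x₁ ^ 3 = w (x₁ ++ x₁ ++ x₁) := by rw [w_append, w_append, pow_succ, pow_two]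
  rw [this]; exact rel hs _ (by decide +kernel)

theorem cube2 : w x₂ ^ 3 = 1 := by
  have : w x₂ ^ 3 = w (x₂ ++ x₂ ++ x₂) := by rw [w_append, w_append, pow_succ, pow_two]
  rw [this]; exact rel hs _ (by decide +kernel)

theorem s2 : w s ^ 2 = 1 := by
  rw [pow_two, ← w_append]; exact rel hs _ (by decide +kernel)

theorem t12 : w t₁ ^ 2 = 1 := by
  rw [pow_two, ← w_append]; exact rel hs _ (by decide +kernel)

theorem t22 : w t₂ ^ 2 = 1 := by
  rw [pow_two, ← w_append]; exact rel hs _ (by decide +kernel)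

theorem x1s : w x₁ * w s = w s * w x₁ := by
  rw [← w_append, ← w_append]; exact eqw hs _ _ (by decide +kernel)

theorem x2s : w x₂ * w s = w s * w x₂ := by
  rw [← w_append, ← w_append]; exact eqw hs _ _ (by decide +kernel)

theorem x1t1 : w x₁ * w t₁ = w t₁ * w x₁ := by
  rw [← w_append, ← w_append]; exact eqw hs _ _ (by decide +kernel)

theorem x2t1 : w x₂ * w t₁ = w t₁ * w x₂ := by
  rw [← w_append, ← w_append]; exact eqw hs _ _ (by decide +kernel)

theorem x1t2 : w x₁ * w t₂ = w t₂ * w x₁ := by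
  rw [← w_append, ← w_append]; exact eqw hs _ _ (by decide +kernel)

theorem x2t2 : w x₂ * w t₂ = w t₂ * w x₂ := by
  rw [← w_append, ← w_append]; exact eqw hs _ _ (by decide +kernel)

theorem k1 : w k * (w s * w t₁) * (w k)⁻¹ = w x₁ := by
  rw [mul_inv_eq_iff_eq_mul, ← w_append, ← w_append, ← w_append]
  exact eqw hs _ _ (by decide +kernel)

theorem k2 : w k * (w s * w t₂) * (w k)⁻¹ = w x₁ * w x₂ := by
  rw [mul_inv_eq_iff_eq_mul, ← w_append, ← w_append, ← w_append, ← w_append]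
  exact eqw hs _ _ (by decide +kernel)

theorem yy : (w s * w t₁) * (w s * w t₂) = (w s * w t₂) * (w s * w t₁) := by
  rw [← w_append, ← w_append, ← w_append, ← w_append]
  exact eqw hs _ _ (by decide +kernel)

omit hs in
theorem n1 : w x₁ ≠ 1 := by
  rw [← w_nil]; exact ne_w _ _ (by decide +kernel)

omit hs in
theorem m1 : w x₂ ≠ 1 := by
  rw [← w_nil]; exact ne_w _ _ (by decide +kernel)

omit hs in
theorem m2 : w x₂ ≠ w x₁ := ne_w _ _ (by decide +kernel)

omit hs in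
theorem m3 : w x₂ ≠ w x₁ * w x₁ := by
  rw [← w_append]; exact ne_w _ _ (by decide +kernel)

end

/-- the Sylow 3-subgroup -/
def P : Subgroup ON := closure {w x₁, w x₂, w s * w t₁, w s * w t₂}

theorem card_dvd (hs : IsSimpleGroup ON) [Finite ON] : 81 ∣ Nat.card ↥P := by
  have a1 := x1s hs
  have a2 := x2s hs
  have b1 := x1t1 hs
  have b2 := x2t1 hs
  have c1 := x1t2 hs
  have c2 := x2t2 hs
  have e2 := s2 hs
  have f2 := t12 hs
  have g2 := t22 hs
  have hk1 := k1 hs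
  have hk2 := k2 hs
  have h12 := x12 hs
  have q1 := cube1 hs
  have q2 := cube2 hs
  have d1 : (w s * w t₁) ^ 3 = 1 := by
    have h1 : w s * w t₁ = (w k)⁻¹ * w x₁ * w k := by rw [← hk1]; group
    have h2 := conj_pow (i := 3) (a := (w k)⁻¹) (b := w x₁)
    rw [inv_inv] at h2
    rw [h1, h2, q1]; group
  have d2 : (w s * w t₂) ^ 3 = 1 := by
    have h1 : w s * w t₂ = (w k)⁻¹ * (w x₁ * w x₂) * w k := by rw [← hk2]; group
    have h2 := conj_pow (i := 3) (a := (w k)⁻¹) (b := w x₁ * w x₂)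
    rw [inv_inv] at h2
    rw [h1, h2, (show Commute (w x₁) (w x₂) from h12).mul_pow, q1, q2]; group
  have hse : w s * w s = 1 := by rw [← pow_two]; exact e2
  have hfe : w t₁ * w t₁ = 1 := by rw [← pow_two]; exact f2
  have hge : w t₂ * w t₂ = 1 := by rw [← pow_two]; exact g2
  have hsi : (w s)⁻¹ = w s := inv_eq_of_mul_eq_one_right hse
  have hfi : (w t₁)⁻¹ = w t₁ := inv_eq_of_mul_eq_one_right hfe
  have hgi : (w t₂)⁻¹ = w t₂ := inv_eq_of_mul_eq_one_right hge
  refine EightyOne.card_closure (s := w s) (g := w k) h12 ?_ ?_ ?_ ?_ (yy hs) q1 q2 d1 d2 ?_ ?_ ?_ ?_ hk1 hk2 n1 m1 m2 m3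
  · rw [← mul_assoc, a1, mul_assoc, b1, mul_assoc]
  · rw [← mul_assoc, a1, mul_assoc, c1, mul_assoc]
  · rw [← mul_assoc, a2, mul_assoc, b2, mul_assoc]
  · rw [← mul_assoc, a2, mul_assoc, c2, mul_assoc]
  · rw [← a1, mul_inv_cancel_right]
  · rw [← a2, mul_inv_cancel_right]
  · rw [mul_inv_rev, hfi, hsi, ← mul_assoc, hse, one_mul]
  · rw [mul_inv_rev, hgi, hsi, ← mul_assoc, hse, one_mul]

theorem not_dvd_index (hON : Cfsg.IsON ON) [Finite ON] : ¬ 3 ∣ P.index := by
  have h1 := card_dvd hON.1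
  have h2 := P.card_mul_index
  rw [hON.2] at h2
  obtain ⟨a, ha⟩ := h1
  rintro ⟨b, hb⟩
  rw [ha, hb] at h2
  have h3 : 81 * (3 * (a * b)) = 460815505920 := by rw [← h2]; ring
  omega

/-- **The 3-part of the multiplier of the O'Nan group.** -/
theorem card_ker_dvd (hON : Cfsg.IsON ON) {K : Type*} [Group K] [Finite K] (hK : commutator K = ⊤) {f : K →* ON}
    (hf : Function.Surjective f) (hZ : f.ker ≤ center K) (hZp : IsPGroup 3 ↥f.ker) : Nat.card ↥f.ker ∣ 3 := by
  haveI : Finite ON := Finite.of_surjective f hf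
  have hs := hON.1
  exact Pairs.card_dvd_pairs hK hf hZ Nat.prime_three (by norm_num) hZp (not_dvd_index hON) (x12 hs) (cube1 hs) (s2 hs)
    (t12 hs) (t22 hs) (x1s hs) (x2s hs) (x1t1 hs) (x2t1 hs) (x1t2 hs) (x2t2 hs) (k1 hs) (k2 hs) le_rfl

end Cfsg.Agent.CpQuot.ONThree
end
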